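import Mathlib

/-! Hermitian elements of centralisers are norms, over finite fields. -/

set_option autoImplicit false

open Matrix Polynomial Function

namespace Cfsg.Lib.HermNorm

theorem field_rep {k : Type*} [Field k] [Finite k] (d u : k) (hs : (1 - 4 * d : k) ≠ 0) :
    ∃ x y : k, x ^ 2 + x * y + d * y ^ 2 = u := by
  classical
  haveI := Fintype.ofFinite k
  by_cases h2 : (2 : k) = 0
  · have hc : ringChar k = 2 := by
      haveI := Fact.mk (CharP.char_is_prime k (ringChar k))
      exact (Nat.prime_dvd_prime_iff_eq (CharP.char_is_prime k (ringChar k)) Nat.prime_two).1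
        ((ringChar.spec k 2).1 (by exact_mod_cast h2))
    obtain ⟨x, hx⟩ := FiniteField.isSquare_of_char_two hc u
    exact ⟨x, 0, by rw [hx]; ring⟩
  · have hodd : Fintype.card k % 2 = 1 := FiniteField.odd_card_of_char_ne_two fun hc => h2 (by
      have : ((2 : ℕ) : k) = 0 := (ringChar.spec k 2).2 (hc ▸ dvd_rfl)
      exact_mod_cast this)
    obtain ⟨a, b, hab⟩ := FiniteField.exists_root_sum_quadratic (f := X ^ 2 - C (4 * u))
      (g := C (4 * d - 1) * X ^ 2) (degree_X_pow_sub_C (by norm_num) _)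
      (by rw [degree_C_mul_X_pow]; · rfl
          intro h; apply hs; linear_combination -h) hodd
    simp only [eval_sub, eval_pow, eval_X, eval_C, eval_mul] at hab
    refine ⟨(a - b) / 2, b, mul_left_cancel₀ (show (4 : k) ≠ 0 from fun h => h2 (by
      have : (2 : k) * 2 = 0 := by rw [← h]; norm_num
      simpa using this)) ?_⟩
    field_simp
    linear_combination 4 * hab

theorem ring_rep {R : Type*} [CommRing R] [Finite R] (d u : R) (hs : IsUnit (1 - 4 * d)) (hu : IsUnit u) :
    ∃ x y : R, x ^ 2 + x * y + d * y ^ 2 = u := by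
  classical
  haveI : IsArtinianRing R := inferInstance
  haveI : Finite (MaximalSpectrum R) := inferInstance
  have hloc : ∀ m : MaximalSpectrum R, ∃ x y : R, x ^ 2 + x * y + d * y ^ 2 - u ∈ m.asIdeal := by
    intro m
    letI := Ideal.Quotient.field m.asIdeal
    haveI : Finite (R ⧸ m.asIdeal) := Finite.of_surjective _ Ideal.Quotient.mk_surjective
    obtain ⟨x, y, hxy⟩ := field_rep (Ideal.Quotient.mk m.asIdeal d) (Ideal.Quotient.mk m.asIdeal u) (by
      have := hs.map (Ideal.Quotient.mk m.asIdeal)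
      simpa [map_ofNat] using this.ne_zero)
    obtain ⟨x, rfl⟩ := Ideal.Quotient.mk_surjective x
    obtain ⟨y, rfl⟩ := Ideal.Quotient.mk_surjective y
    refine ⟨x, y, Ideal.Quotient.eq.1 ?_⟩
    simpa using hxy
  choose fx fy hf using hloc
  have hco : Pairwise (IsCoprime on fun m : MaximalSpectrum R => m.asIdeal) := fun m m' hne =>
    Ideal.isCoprime_iff_sup_eq.2 (m.isMaximal.coprime_of_ne m'.isMaximal fun h => hne (MaximalSpectrum.ext h))
  obtain ⟨x, hx⟩ := Ideal.exists_forall_sub_mem_ideal hco fx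
  obtain ⟨y, hy⟩ := Ideal.exists_forall_sub_mem_ideal hco fy
  set e := x ^ 2 + x * y + d * y ^ 2 - u with he
  have hnil : IsNilpotent e := by
    rw [← mem_nilradical, nilradical_eq_sInf, Submodule.mem_sInf]
    intro P hP
    haveI : Ideal.IsPrime P := hP
    let m : MaximalSpectrum R := ⟨P, IsArtinianRing.isMaximal_of_isPrime P⟩
    show e ∈ m.asIdeal
    rw [← Ideal.Quotient.eq_zero_iff_mem]
    have h1 := Ideal.Quotient.eq.2 (hx m)
    have h2 := Ideal.Quotient.eq.2 (hy m)
    have h3 := Ideal.Quotient.eq_zero_iff_mem.2 (hf m)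
    simp only [he, map_sub, map_add, map_mul, map_pow] at h3 ⊢
    rw [h1, h2]; exact h3
  have hN : IsUnit (x ^ 2 + x * y + d * y ^ 2) := by
    rw [show x ^ 2 + x * y + d * y ^ 2 = e + u by rw [he]; ring]
    exact hnil.isUnit_add_right_of_commute hu (Commute.all _ _)
  -- solve the unipotent part
  let g : {z : R // IsNilpotent z} → {z : R // IsNilpotent z} := fun z =>
    ⟨z.1 + d * z.1 ^ 2, by
      rw [show z.1 + d * z.1 ^ 2 = z.1 * (1 + d * z.1) by ring]
      exact (Commute.all _ _).isNilpotent_mul_right z.2⟩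
  have ginj : Function.Injective g := by
    intro a b hab
    have h := congrArg Subtype.val hab
    simp only [g] at h
    have hu1 : IsUnit (1 + d * (a.1 + b.1)) := IsNilpotent.isUnit_one_add
      ((Commute.all _ _).isNilpotent_mul_left ((Commute.all _ _).isNilpotent_add a.2 b.2))
    apply Subtype.ext
    have : (a.1 - b.1) * (1 + d * (a.1 + b.1)) = 0 := by linear_combination h
    exact sub_eq_zero.1 ((hu1.mul_left_eq_zero).1 this)
  obtain ⟨v, hv⟩ := hN
  obtain ⟨⟨z, hz⟩, hgz⟩ := (Finite.injective_iff_surjective.1 ginj)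
    ⟨-e * ((v⁻¹ : Rˣ) : R), (Commute.all _ _).isNilpotent_mul_right hnil.neg⟩
  have hz' : z + d * z ^ 2 = -e * ((v⁻¹ : Rˣ) : R) := congrArg Subtype.val hgz
  have hve : (v : R) = u + e := by rw [hv, he]; ring
  refine ⟨x - d * y * z, x * z + y + y * z, ?_⟩
  have h1 : (v : R) * ((v⁻¹ : Rˣ) : R) = 1 := Units.mul_inv v
  calc _ = (x ^ 2 + x * y + d * y ^ 2) * (1 + (z + d * z ^ 2)) := by ring
    _ = (v : R) - e * ((v : R) * ((v⁻¹ : Rˣ) : R)) := by rw [hz', ← hv]; ring
    _ = u := by rw [h1, hve]; ring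

section Matrices

variable {K : Type*} [Field K] [Fintype K] {n : ℕ} (σ : K →+* K)

/-- The conjugate transpose with respect to `σ`. -/
def st (X : Matrix (Fin n) (Fin n) K) : Matrix (Fin n) (Fin n) K := (X.map σ)ᵀ

theorem st_mul (X Y : Matrix (Fin n) (Fin n) K) : st σ (X * Y) = st σ Y * st σ X := by
  rw [st, Matrix.map_mul, Matrix.transpose_mul]; rfl

theorem st_one : st σ (1 : Matrix (Fin n) (Fin n) K) = 1 := by
  rw [st, Matrix.map_one σ (map_zero σ) (map_one σ), Matrix.transpose_one]

theorem st_add (X Y : Matrix (Fin n) (Fin n) K) : st σ (X + Y) = st σ X + st σ Y := by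
  ext i j; simp [st]

theorem st_neg (X : Matrix (Fin n) (Fin n) K) : st σ (-X) = -st σ X := by
  ext i j; simp [st]

theorem st_smul (c : K) (X : Matrix (Fin n) (Fin n) K) : st σ (c • X) = σ c • st σ X := by
  ext i j; simp [st]

variable {σ} (hinv : ∀ a, σ (σ a) = a) (hne : ∃ a, σ a ≠ a)

include hinv in
theorem st_st (X : Matrix (Fin n) (Fin n) K) : st σ (st σ X) = X := by
  ext i j; simp [st, hinv]

include hinv hne in
theorem exists_trace_one : ∃ ω, ω + σ ω = 1 ∧ σ ω ≠ ω := by
  obtain ⟨z, hz⟩ := hne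
  have key : ∀ w, σ w ≠ w → w + σ w ≠ 0 → ∃ ω, ω + σ ω = 1 ∧ σ ω ≠ ω := by
    intro w hw hw0
    have hs : σ (w + σ w) = w + σ w := by rw [map_add, hinv]; ring
    refine ⟨w / (w + σ w), ?_, ?_⟩
    · rw [map_div₀, hs, ← add_div, div_self hw0]
    · rw [map_div₀, hs]
      intro h
      exact hw (mul_right_cancel₀ (inv_ne_zero hw0) (by simpa [div_eq_mul_inv] using h))
  by_cases h0 : z + σ z = 0
  · refine key (z + 1) (by rw [map_add, map_one]; simpa using hz) fun h => hz ?_
    rw [map_add, map_one] at h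
    have h2 : (2 : K) = 0 := by linear_combination h - h0
    linear_combination h0 - z * h2
  · exact key z hz h0

include hinv hne in
/-- A hermitian unit commuting with `G` is the norm of an element commuting with `G`. -/
theorem exists_norm (G A : Matrix (Fin n) (Fin n) K) (hA : IsUnit A) (hAs : st σ A = A) (hAG : A * G = G * A) :
    ∃ B : Matrix (Fin n) (Fin n) K, IsUnit B ∧ B * G = G * B ∧ st σ B * B = A := by
  classical
  obtain ⟨ω, hω, hωne⟩ := exists_trace_one hinv hne
  let S : Set (Matrix (Fin n) (Fin n) K) := {A} ∪ {X | ∃ c : K, σ c = c ∧ X = c • (1 : Matrix (Fin n) (Fin n) K)}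
  let R := Subring.closure S
  have hS : ∀ a ∈ S, ∀ b ∈ S, a * b = b * a := by
    rintro a (rfl | ⟨c, -, rfl⟩) b (rfl | ⟨c', -, rfl⟩) <;> simp [smul_smul, mul_comm]
  letI : CommRing R := Subring.closureCommRingOfComm hS
  haveI : Finite R := inferInstance
  have hRst : ∀ X ∈ R, st σ X = X ∧ X * G = G * X := by
    have hc : ∀ X ∈ R, ∀ Y ∈ R, X * Y = Y * X := fun X hX Y hY =>
      congrArg Subtype.val (mul_comm (⟨X, hX⟩ : R) ⟨Y, hY⟩)
    intro X hX
    induction hX using Subring.closure_induction with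
    | mem x hx =>
      rcases hx with rfl | ⟨c, hc', rfl⟩
      · exact ⟨hAs, hAG⟩
      · exact ⟨by rw [st_smul, st_one, hc'], by simp⟩
    | zero => exact ⟨by ext i j; simp [st], by simp⟩
    | one => exact ⟨st_one σ, by simp⟩
    | add x y _ _ hx hy => exact ⟨by rw [st_add, hx.1, hy.1], by rw [add_mul, mul_add, hx.2, hy.2]⟩
    | neg x _ hx => exact ⟨by rw [st_neg, hx.1], by rw [neg_mul, mul_neg, hx.2]⟩
    | mul x y hx' hy' hx hy => exact ⟨by rw [st_mul, hx.1, hy.1, hc y hy' x hx'],
        by rw [mul_assoc, hy.2, ← mul_assoc, hx.2, mul_assoc]⟩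
  have hsc : ∀ c : K, σ c = c → c • (1 : Matrix (Fin n) (Fin n) K) ∈ R := fun c hc =>
    Subring.subset_closure (Or.inr ⟨c, hc, rfl⟩)
  have hd : σ (ω * σ ω) = ω * σ ω := by rw [map_mul, hinv, mul_comm]
  let dR : R := ⟨(ω * σ ω) • 1, hsc _ hd⟩
  let aR : R := ⟨A, Subring.subset_closure (Or.inl rfl)⟩
  have haR : IsUnit aR := by
    have hinj : Function.Injective fun z : R => aR * z := fun z w h => by
      apply Subtype.ext
      exact hA.mul_left_cancel (congrArg Subtype.val h)
    obtain ⟨w, hw⟩ := (Finite.injective_iff_surjective.1 hinj) 1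
    exact IsUnit.of_mul_eq_one w hw
  have hdisc : IsUnit (1 - 4 * dR) := by
    let e : K := 1 - 4 * (ω * σ ω)
    have he : e = (ω - σ ω) ^ 2 := by
      show 1 - 4 * (ω * σ ω) = _
      linear_combination (-1 - ω - σ ω) * hω
    have he0 : e ≠ 0 := he ▸ pow_ne_zero 2 (sub_ne_zero.2 (Ne.symm hωne))
    have hes : σ e = e := by
      show σ (1 - 4 * (ω * σ ω)) = _
      rw [map_sub, map_one, map_mul, map_ofNat, hd]
    have hes' : σ e⁻¹ = e⁻¹ := by rw [map_inv₀, hes]
    refine IsUnit.of_mul_eq_one (⟨e⁻¹ • 1, hsc _ hes'⟩ : R) (Subtype.ext ?_)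
    show ((1 : Matrix (Fin n) (Fin n) K) - 4 * ((ω * σ ω) • 1)) * (e⁻¹ • 1) = 1
    have h4 : (1 : Matrix (Fin n) (Fin n) K) - 4 * ((ω * σ ω) • 1) = e • 1 := by
      simp only [e, sub_smul, one_smul, mul_smul_comm, mul_one, mul_smul]
      rw [show (4 : Matrix (Fin n) (Fin n) K) = (4 : K) • 1 by rw [← Algebra.algebraMap_eq_smul_one, map_ofNat]]
      simp only [smul_smul]
      ring_nf
    rw [h4, smul_mul_smul_comm, one_mul, mul_inv_cancel₀ he0, one_smul]
  obtain ⟨x, y, hxy⟩ := ring_rep dR aR hdisc haR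
  obtain ⟨hxs, hxG⟩ := hRst x.1 x.2
  obtain ⟨hys, hyG⟩ := hRst y.1 y.2
  have hxy' : (x.1 : Matrix (Fin n) (Fin n) K) * x.1 + x.1 * y.1 + (ω * σ ω) • (y.1 * y.1) = A := by
    have h := congrArg Subtype.val hxy
    simp only [pow_two, Subring.coe_add, Subring.coe_mul] at h
    rw [show (dR : Matrix (Fin n) (Fin n) K) = (ω * σ ω) • 1 from rfl, smul_mul_assoc, one_mul] at h
    exact h
  have hcomm : y.1 * x.1 = x.1 * y.1 := congrArg Subtype.val (mul_comm y x)
  have hprod : st σ (x.1 + ω • y.1) * (x.1 + ω • y.1) = A := by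
    rw [st_add, st_smul, hxs, hys, ← hxy', add_mul, mul_add, mul_add, smul_mul_assoc, mul_smul_comm,
      smul_mul_smul_comm, hcomm, mul_comm (σ ω) ω, ← add_assoc, add_assoc (x.1 * x.1), ← add_smul, hω, one_smul]
  refine ⟨x.1 + ω • y.1, ?_, by rw [add_mul, mul_add, hxG, smul_mul_assoc, mul_smul_comm, hyG], hprod⟩
  have hdet : IsUnit (st σ (x.1 + ω • y.1) * (x.1 + ω • y.1)).det := by
    rw [hprod]; exact (Matrix.isUnit_iff_isUnit_det A).1 hA
  rw [Matrix.det_mul] at hdet
  exact (Matrix.isUnit_iff_isUnit_det _).2 (IsUnit.mul_iff.1 hdet).2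

include hinv hne in
/-- An element with an invertible sesquilinear intertwiner has a hermitian one. -/
theorem exists_hermitian (G M : Matrix (Fin n) (Fin n) K) (hM : IsUnit M) (hMG : st σ G * M * G = M) :
    ∃ H : Matrix (Fin n) (Fin n) K, IsUnit H ∧ st σ H = H ∧ st σ G * H * G = H := by
  classical
  obtain ⟨u, rfl⟩ := hM
  set M : Matrix (Fin n) (Fin n) K := (u : Matrix (Fin n) (Fin n) K) with hMdef
  set Mi : Matrix (Fin n) (Fin n) K := ((u⁻¹ : (Matrix (Fin n) (Fin n) K)ˣ) : Matrix (Fin n) (Fin n) K) with hMi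
  have h1 : M * Mi = 1 := Units.mul_inv u
  have h2 : Mi * M = 1 := Units.inv_mul u
  let θ : Matrix (Fin n) (Fin n) K → Matrix (Fin n) (Fin n) K := fun z => Mi * st σ z * M
  have θmul : ∀ a b, θ (a * b) = θ b * θ a := fun a b => by
    show Mi * st σ (a * b) * M = Mi * st σ b * M * (Mi * st σ a * M)
    rw [st_mul]
    simp only [mul_assoc]
    rw [← mul_assoc M Mi, h1, one_mul]
  set T := Mi * st σ M with hT
  have hθT : θ T = Mi * (M * (st σ Mi * M)) := by
    show Mi * st σ (Mi * st σ M) * M = _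
    rw [st_mul, st_st hinv]; simp only [mul_assoc]
  have hθTT : θ T * T = 1 := by
    rw [hθT, hT]
    have e : st σ Mi * st σ M = 1 := by rw [← st_mul, h1, st_one]
    simp only [← mul_assoc]
    rw [h2, one_mul, mul_assoc (st σ Mi), h1, mul_one, e]
  have hTθT : T * θ T = 1 := mul_eq_one_comm.1 hθTT
  let S : Set (Matrix (Fin n) (Fin n) K) := {T, θ T} ∪ {X | ∃ c : K, X = c • (1 : Matrix (Fin n) (Fin n) K)}
  let R := Subring.closure S
  have hS : ∀ a ∈ S, ∀ b ∈ S, a * b = b * a := by
    rintro a ((rfl | rfl) | ⟨c, rfl⟩) b ((rfl | rfl) | ⟨c', rfl⟩) <;>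
      simp [smul_smul, mul_comm, hθTT, hTθT]
  letI : CommRing R := Subring.closureCommRingOfComm hS
  haveI : Finite R := inferInstance
  have hTS : T ∈ R := Subring.subset_closure (Or.inl (Or.inl rfl))
  have θone : ∀ c : K, θ (c • 1) = σ c • 1 := fun c => by
    show Mi * st σ _ * M = _
    rw [st_smul, st_one, mul_smul_comm, mul_one, smul_mul_assoc, h2]
  have θadd : ∀ a b, θ (a + b) = θ a + θ b := fun a b => by
    show Mi * st σ (a + b) * M = _
    rw [st_add, mul_add, add_mul]
  have θθT : θ (θ T) = T := by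
    have h := θmul (θ T) T
    rw [hθTT, show θ (1 : Matrix (Fin n) (Fin n) K) = 1 by simpa using θone 1] at h
    calc θ (θ T) = T * θ T * θ (θ T) := by rw [hTθT, one_mul]
      _ = T := by rw [mul_assoc, ← h, mul_one]
  have hθR : ∀ z ∈ R, θ z ∈ R := by
    intro z hz
    induction hz using Subring.closure_induction with
    | mem x hx =>
      rcases hx with (rfl | rfl) | ⟨c, rfl⟩
      · exact Subring.subset_closure (Or.inl (Or.inr rfl))
      · rw [θθT]; exact hTS
      · rw [θone]; exact Subring.subset_closure (Or.inr ⟨_, rfl⟩)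
    | zero => rw [show θ (0 : Matrix (Fin n) (Fin n) K) = 0 by simpa using θone 0]; exact zero_mem _
    | one => rw [show θ (1 : Matrix (Fin n) (Fin n) K) = 1 by simpa using θone 1]; exact one_mem _
    | add x y _ _ hx hy => rw [θadd]; exact add_mem hx hy
    | neg x _ hx =>
      rw [show θ (-x) = -θ x by show Mi * st σ (-x) * M = -(Mi * st σ x * M); rw [st_neg, mul_neg, neg_mul]]
      exact neg_mem hx
    | mul x y _ _ hx hy => rw [θmul]; exact mul_mem hy hx
  let θR : R →+* R :=
    { toFun := fun z => ⟨θ z.1, hθR _ z.2⟩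
      map_one' := Subtype.ext (by simpa using θone 1)
      map_mul' := fun a b => by
        rw [mul_comm a b]
        exact Subtype.ext (θmul b.1 a.1)
      map_zero' := Subtype.ext (by simpa using θone 0)
      map_add' := fun a b => Subtype.ext (θadd a.1 b.1) }
  let t : R := ⟨T, hTS⟩
  have ht : IsUnit t := IsUnit.of_mul_eq_one ⟨θ T, hθR _ hTS⟩ (Subtype.ext hTθT)
  -- a multiplier avoiding every maximal ideal
  have hloc : ∀ m : MaximalSpectrum R, ∃ a b : R, (m.asIdeal.comap θR = m.asIdeal → b = a) ∧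
      (m.asIdeal.comap θR ≠ m.asIdeal → True) ∧ a + θR b * t ∉ m.asIdeal := by
    intro m
    by_cases h : (1 : R) + θR 1 * t ∈ m.asIdeal
    · obtain ⟨c, hc⟩ := hne
      let cR : R := ⟨c • 1, Subring.subset_closure (Or.inr ⟨c, rfl⟩)⟩
      refine ⟨cR, cR, fun _ => rfl, fun _ => trivial, fun h' => ?_⟩
      have hcs : θR cR = ⟨σ c • 1, Subring.subset_closure (Or.inr ⟨_, rfl⟩)⟩ := Subtype.ext (θone c)
      have hdiff : cR - θR cR ∈ m.asIdeal := by
        have := m.asIdeal.sub_mem h' (m.asIdeal.mul_mem_left (θR cR) h)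
        rw [map_one] at this
        rwa [show cR + θR cR * t - θR cR * (1 + 1 * t) = cR - θR cR by ring] at this
      refine m.isMaximal.ne_top (Ideal.eq_top_of_isUnit_mem _ hdiff ?_)
      have h0 : c - σ c ≠ 0 := sub_ne_zero.2 (Ne.symm hc)
      refine IsUnit.of_mul_eq_one (⟨(c - σ c)⁻¹ • 1, Subring.subset_closure (Or.inr ⟨_, rfl⟩)⟩ : R) (Subtype.ext ?_)
      rw [hcs]
      show (c • (1 : Matrix (Fin n) (Fin n) K) - σ c • 1) * ((c - σ c)⁻¹ • 1) = 1
      rw [← sub_smul, smul_mul_smul_comm, one_mul, mul_inv_cancel₀ h0, one_smul]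
    · exact ⟨1, 1, fun _ => rfl, fun _ => trivial, h⟩
  choose fa fb hfe _ hfn using hloc
  have hinvol : ∀ r, θR (θR r) = r := fun r => Subtype.ext (by
    obtain ⟨z, hz⟩ := r
    show θ (θ z) = z
    induction hz using Subring.closure_induction with
    | mem x hx =>
      rcases hx with (rfl | rfl) | ⟨c, rfl⟩
      · exact θθT
      · rw [θθT]
      · rw [θone, θone, hinv]
    | zero => rw [show θ (0 : Matrix (Fin n) (Fin n) K) = 0 by simpa using θone 0]; simpa using θone 0
    | one => rw [show θ (1 : Matrix (Fin n) (Fin n) K) = 1 by simpa using θone 1]; simpa using θone 1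
    | add x y _ _ hx hy => rw [θadd, θadd, hx, hy]
    | neg x _ hx =>
      have hn : ∀ z, θ (-z) = -θ z := fun z => by show Mi * st σ (-z) * M = -(Mi * st σ z * M); rw [st_neg, mul_neg, neg_mul]
      rw [hn, hn, hx]
    | mul x y _ _ hx hy => rw [θmul x y, θmul (θ y) (θ x), hx, hy])
  haveI : Finite (MaximalSpectrum R) := inferInstance
  letI := Fintype.ofFinite (MaximalSpectrum R)
  let par : MaximalSpectrum R → MaximalSpectrum R := fun m =>
    ⟨m.asIdeal.comap θR, Ideal.comap_isMaximal_of_surjective θR (fun r => ⟨θR r, hinvol r⟩) (H := m.isMaximal)⟩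
  have hpar : ∀ m, par (par m) = m := fun m => MaximalSpectrum.ext (by
    ext r
    show θR (θR r) ∈ m.asIdeal ↔ _
    rw [hinvol])
  let idx : MaximalSpectrum R → ℕ := fun m => (Fintype.equivFin (MaximalSpectrum R) m).val
  have idxinj : Function.Injective idx := fun a b h => (Fintype.equivFin _).injective (Fin.ext h)
  let val : MaximalSpectrum R → R := fun m => if par m = m then fa m else if idx m < idx (par m) then 1 else 0
  have hco : Pairwise (IsCoprime on fun m : MaximalSpectrum R => m.asIdeal) := fun m m' hne =>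
    Ideal.isCoprime_iff_sup_eq.2 (m.isMaximal.coprime_of_ne m'.isMaximal fun h => hne (MaximalSpectrum.ext h))
  obtain ⟨l, hl⟩ := Ideal.exists_forall_sub_mem_ideal hco val
  let Z : R := l + θR l * t
  have hZ : IsUnit Z := by
    by_contra hnu
    obtain ⟨P, hP, hZP⟩ := exists_max_ideal_of_mem_nonunits hnu
    let m : MaximalSpectrum R := ⟨P, hP⟩
    have h1 : l - val m ∈ m.asIdeal := hl m
    have h2 : θR (l - val (par m)) ∈ m.asIdeal := hl (par m)
    have h3 : val m + θR (val (par m)) * t ∈ m.asIdeal := by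
      have := m.asIdeal.sub_mem (m.asIdeal.sub_mem (hZP : Z ∈ m.asIdeal) h1) (m.asIdeal.mul_mem_right t h2)
      rwa [show Z - (l - val m) - θR (l - val (par m)) * t = val m + θR (val (par m)) * t by
        simp only [Z, map_sub]; ring] at this
    have htm : t ∉ m.asIdeal := fun h => m.isMaximal.ne_top (Ideal.eq_top_of_isUnit_mem _ h ht)
    by_cases hp : par m = m
    · rw [hp] at h3
      simp only [val, hp, if_true] at h3
      have := hfn m
      rw [hfe m (congrArg MaximalSpectrum.asIdeal hp)] at this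
      exact this h3
    · have hp' : par (par m) ≠ par m := by rw [hpar]; exact Ne.symm hp
      have hne' : idx m ≠ idx (par m) := fun h => hp (idxinj h).symm
      by_cases hlt : idx m < idx (par m)
      · simp only [val, hp, hp', (Ne.symm hp : m ≠ par m), hpar, hlt, if_false, if_true, show ¬ idx (par m) < idx m by omega, map_zero,
          zero_mul, add_zero] at h3
        exact m.isMaximal.ne_top ((Ideal.eq_top_iff_one _).2 h3)
      · simp only [val, hp, hp', (Ne.symm hp : m ≠ par m), hpar, hlt, if_false, if_true, show idx (par m) < idx m by omega, map_one,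
          one_mul, zero_add] at h3
        exact htm h3
  refine ⟨M * Z.1, ?_, ?_, ?_⟩
  · exact (Units.isUnit u).mul (hZ.map R.subtype)
  · have hθZ : θR Z * t = Z := by
      simp only [Z, map_add, map_mul, hinvol]
      have e : θR t * t = 1 := Subtype.ext hθTT
      linear_combination l * e
    have h := congrArg Subtype.val hθZ
    have h' : Mi * st σ Z.1 * M * (Mi * st σ M) = Z.1 := h
    rw [show Mi * st σ Z.1 * M * (Mi * st σ M) = Mi * (st σ Z.1 * st σ M) by
      simp only [mul_assoc]; rw [← mul_assoc M Mi, h1, one_mul]] at h'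
    rw [st_mul]
    conv_rhs => rw [← h', ← mul_assoc M, h1, one_mul]
  · have hTG : T * G = G * T := by
      have e1 : st σ G * M * G = M := hMG
      have e2 : st σ G * st σ M * G = st σ M := by
        have := congrArg (st σ) hMG
        rw [st_mul, st_mul, st_st hinv, ← mul_assoc] at this
        exact this
      have hG : IsUnit (st σ G * M * G).det := by rw [e1]; exact (Matrix.isUnit_iff_isUnit_det M).1 (Units.isUnit u)
      have hsG : IsUnit (st σ G) := by
        rw [Matrix.isUnit_iff_isUnit_det]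
        rw [Matrix.det_mul, Matrix.det_mul] at hG
        exact (IsUnit.mul_iff.1 (IsUnit.mul_iff.1 hG).1).1
      apply (Units.isUnit u).mul_left_cancel
      apply hsG.mul_left_cancel
      have eMT : M * T = st σ M := by rw [hT, ← mul_assoc, h1, one_mul]
      calc st σ G * (M * (T * G)) = st σ G * (M * T) * G := by simp only [mul_assoc]
        _ = st σ M := by rw [eMT, e2]
        _ = st σ G * M * G * T := by rw [e1, eMT]
        _ = st σ G * (M * (G * T)) := by simp only [mul_assoc]
    have hθTG : θ T * G = G * θ T := by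
      calc θ T * G = θ T * G * (T * θ T) := by rw [hTθT, mul_one]
        _ = θ T * (T * G) * θ T := by rw [hTG]; simp only [mul_assoc]
        _ = G * θ T := by rw [← mul_assoc (θ T), hθTT, one_mul]
    have hZG : ∀ z ∈ R, z * G = G * z := by
      intro z hz
      induction hz using Subring.closure_induction with
      | mem x hx =>
        rcases hx with (rfl | rfl) | ⟨c, rfl⟩
        · exact hTG
        · exact hθTG
        · simp
      | zero => simp
      | one => simp
      | add x y _ _ hx hy => rw [add_mul, mul_add, hx, hy]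
      | neg x _ hx => rw [neg_mul, mul_neg, hx]
      | mul x y _ _ hx hy => rw [mul_assoc, hy, ← mul_assoc, hx, mul_assoc]
    calc st σ G * (M * Z.1) * G = st σ G * M * (Z.1 * G) := by simp only [mul_assoc]
      _ = st σ G * M * G * Z.1 := by rw [hZG _ Z.2]; simp only [mul_assoc]
      _ = M * Z.1 := by rw [hMG]

end Matrices

end Cfsg.Lib.HermNorm
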