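import Mathlib
import Cfsg.Prelude.Def_Classical
import Cfsg.Prelude.Def_LieClassical
import Cfsg.Agent.Lib.Classical.UnitaryStd
import Cfsg.Agent.Lib.LinAlg.HermitianNorm

/-! `GU n K q` as the matrices `g` with `st σ g * g = 1`. -/

set_option autoImplicit false

open Matrix

namespace Cfsg.Lib.HermNorm

variable {K : Type*} [Field K] [Fintype K] {n q : ℕ}

theorem gu_iff {σ : K ≃+* K} (hσ : ∀ a, σ a = a ^ q) {g : GL (Fin n) K} :
    g ∈ Cfsg.GU n K q ↔ st σ.toRingHom (g : Matrix (Fin n) (Fin n) K) * g = 1 := by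
  rw [Cfsg.Lib.Classical.mem_GU_iff]
  constructor
  · intro h
    ext i j
    have := h (Pi.single j 1) (Pi.single i 1)
    simp only [Cfsg.hermForm, ← hσ] at this
    have hr : ∑ k, (Pi.single j (1 : K) : Fin n → K) k * σ ((Pi.single i (1 : K) : Fin n → K) k) = (1 : Matrix (Fin n) (Fin n) K) i j := by
      simp [Pi.single_apply, Matrix.one_apply]
    rw [hr] at this
    rw [← this, Matrix.mul_apply]
    exact Finset.sum_congr rfl fun k _ => by simp [st, mul_comm]
  · intro h x y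
    simp only [Cfsg.hermForm, ← hσ]
    have e : ∀ a b : Fin n, ∑ k, σ ((g : Matrix (Fin n) (Fin n) K) k b) * (g : Matrix (Fin n) (Fin n) K) k a
        = (1 : Matrix (Fin n) (Fin n) K) b a := fun a b => by
      rw [← h, Matrix.mul_apply]; rfl
    calc ∑ k, ((g : Matrix (Fin n) (Fin n) K) *ᵥ x) k * σ (((g : Matrix (Fin n) (Fin n) K) *ᵥ y) k)
        = ∑ k, ∑ a, ∑ b, x a * σ (y b) * (σ ((g : Matrix (Fin n) (Fin n) K) k b) * (g : Matrix (Fin n) (Fin n) K) k a) := by
          refine Finset.sum_congr rfl fun k _ => ?_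
          simp only [Matrix.mulVec, dotProduct, map_sum, map_mul, Finset.sum_mul, Finset.mul_sum]
          rw [Finset.sum_comm]
          exact Finset.sum_congr rfl fun a _ => Finset.sum_congr rfl fun b _ => by ring
      _ = ∑ a, ∑ b, x a * σ (y b) * (1 : Matrix (Fin n) (Fin n) K) b a := by
          rw [Finset.sum_comm]
          refine Finset.sum_congr rfl fun a _ => ?_
          rw [Finset.sum_comm]
          exact Finset.sum_congr rfl fun b _ => by rw [← Finset.mul_sum, e]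
      _ = _ := Finset.sum_congr rfl fun a _ => by simp [Matrix.one_apply]

theorem ne_id {σ : K ≃+* K} (hne : σ ≠ RingEquiv.refl K) : ∃ a, σ.toRingHom a ≠ a := by
  by_contra! h
  exact hne (RingEquiv.ext h)

theorem st_inv {σ : K ≃+* K} {X : GL (Fin n) K} :
    IsUnit (st σ.toRingHom (X : Matrix (Fin n) (Fin n) K)) := by
  rw [Matrix.isUnit_iff_isUnit_det, st, Matrix.det_transpose, ← RingHom.mapMatrix_apply, ← RingHom.map_det]
  exact ((Matrix.isUnit_iff_isUnit_det _).1 (Units.isUnit X)).map _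

/-- Conjugation over `GL` controls conjugation in the unitary group. -/
theorem conj_of_gl {σ : K ≃+* K} (hne : σ ≠ RingEquiv.refl K) (hσ : ∀ a, σ a = a ^ q)
    (hinv : ∀ a, σ (σ a) = a) {g h P : GL (Fin n) K} (hg : g ∈ Cfsg.GU n K q) (hh : h ∈ Cfsg.GU n K q)
    (hP : P * g * P⁻¹ = h) : ∃ U ∈ Cfsg.GU n K q, U * g * U⁻¹ = h := by
  let G : Matrix (Fin n) (Fin n) K := g
  let Pm : Matrix (Fin n) (Fin n) K := P
  have hG := (gu_iff hσ).1 hg
  have hH := (gu_iff hσ).1 hh
  have hPG : Pm * G = (h : Matrix (Fin n) (Fin n) K) * Pm := by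
    show ((P * g : GL (Fin n) K) : Matrix (Fin n) (Fin n) K) = ((h * P : GL (Fin n) K) : Matrix (Fin n) (Fin n) K)
    rw [← hP, inv_mul_cancel_right]
  have hA : IsUnit (st σ.toRingHom Pm * Pm) := st_inv.mul (Units.isUnit P)
  have hAs : st σ.toRingHom (st σ.toRingHom Pm * Pm) = st σ.toRingHom Pm * Pm := by
    rw [st_mul, st_st (σ := σ.toRingHom) hinv]
  have hAG : st σ.toRingHom Pm * Pm * G = G * (st σ.toRingHom Pm * Pm) := by
    have e : st σ.toRingHom G * (st σ.toRingHom Pm * Pm) * G = st σ.toRingHom Pm * Pm := by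
      calc _ = st σ.toRingHom (Pm * G) * (Pm * G) := by rw [st_mul]; simp only [mul_assoc]
        _ = st σ.toRingHom Pm * (st σ.toRingHom (h : Matrix (Fin n) (Fin n) K) * h) * Pm := by
          rw [hPG, st_mul]; simp only [mul_assoc]
        _ = _ := by rw [hH, mul_one]
    have hG' : G * st σ.toRingHom G = 1 := mul_eq_one_comm.1 hG
    conv_rhs => rw [← e]
    rw [← mul_assoc, ← mul_assoc G, hG', one_mul]
  obtain ⟨B, hB, hBG, hBA⟩ := exists_norm (σ := σ.toRingHom) hinv (ne_id hne) G _ hA hAs hAG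
  refine ⟨P * hB.unit⁻¹, (gu_iff hσ).2 ?_, ?_⟩
  · show st σ.toRingHom (Pm * ((hB.unit⁻¹ : GL (Fin n) K) : Matrix (Fin n) (Fin n) K)) * (Pm * _) = 1
    rw [st_mul, mul_assoc, ← mul_assoc (st σ.toRingHom Pm), ← hBA, mul_assoc (st σ.toRingHom B),
      IsUnit.mul_val_inv, mul_one, ← st_mul, IsUnit.mul_val_inv, st_one]
  · have hc : hB.unit⁻¹ * g = g * hB.unit⁻¹ := (Commute.inv_left (Units.ext hBG : Commute hB.unit g)).eq
    rw [_root_.mul_inv_rev, inv_inv, mul_assoc P, hc, ← hP]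
    group

end Cfsg.Lib.HermNorm
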