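import Mathlib

/-!
# The centraliser of a transvection
-/

set_option autoImplicit false

open Matrix

namespace Cfsg.Agent.LinAlg.Transv

variable {F : Type*} [Field F] {k : ℕ}

/-- index type adapted to a transvection -/
abbrev Idx (k : ℕ) := Unit ⊕ (Fin k ⊕ Unit)

/-- the standard square-zero matrix of rank one -/
def std (F : Type*) [Field F] (k : ℕ) : Matrix (Idx k) (Idx k) F :=
  Matrix.single (Sum.inl ()) (Sum.inr (Sum.inr ())) 1

theorem exists_conj_std {N : Matrix (Idx k) (Idx k) F} (hr : N.rank = 1) (h2 : N * N = 0) :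
    ∃ P : GL (Idx k) F, N * (P : Matrix (Idx k) (Idx k) F) = P * std F k := by
  classical
  have hne : N ≠ 0 := fun h => by rw [h, Matrix.rank_zero] at hr; exact zero_ne_one hr
  obtain ⟨v, hv⟩ : ∃ v, N *ᵥ v ≠ 0 := by
    by_contra hall
    push Not at hall
    exact hne (Matrix.ext_iff_mulVec.mpr fun v => by rw [hall v, Matrix.zero_mulVec])
  set w := N *ᵥ v with hw
  have hNw : N *ᵥ w = 0 := by rw [hw, Matrix.mulVec_mulVec, h2, Matrix.zero_mulVec]
  obtain ⟨r0, hr0'⟩ := Function.ne_iff.mp hv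
  have hr0 : w r0 ≠ 0 := hr0'
  set K := LinearMap.ker N.mulVecLin
  have hK : Module.finrank F K = k + 1 := by
    have := N.mulVecLin.finrank_range_add_finrank_ker
    rw [show Module.finrank F (LinearMap.range N.mulVecLin) = 1 from hr, Module.finrank_fintype_fun_eq_card] at this
    simp only [Fintype.card_sum, Fintype.card_unique, Fintype.card_fin] at this
    show Module.finrank F (LinearMap.ker N.mulVecLin) = k + 1
    omega
  let φ : K →ₗ[F] F := (LinearMap.proj r0).comp K.subtype
  have hφ : LinearMap.range φ = ⊤ :=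
    LinearMap.range_eq_top.mpr fun a =>
      ⟨(a / w r0) • ⟨w, by rw [LinearMap.mem_ker, Matrix.mulVecLin_apply, hNw]⟩,
        div_mul_cancel₀ a hr0⟩
  have hW : Module.finrank F (LinearMap.ker φ) = k := by
    have := φ.finrank_range_add_finrank_ker
    rw [hφ, finrank_top, Module.finrank_self, hK] at this
    omega
  obtain ⟨bb, hli, hbK, hbr⟩ : ∃ bb : Fin k → (Idx k → F), LinearIndependent F bb ∧
      (∀ i, N *ᵥ bb i = 0) ∧ ∀ i, bb i r0 = 0 := by
    have hW' : Module.finrank F ((LinearMap.ker φ).map K.subtype) = k := by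
      rw [Submodule.finrank_map_subtype_eq]; exact hW
    revert hW'
    generalize hWdef : (LinearMap.ker φ).map K.subtype = W
    intro hW'
    let b := Module.finBasisOfFinrankEq F W hW'
    have hmem : ∀ x ∈ W, N *ᵥ x = 0 ∧ x r0 = 0 := fun x hx => by
      rw [← hWdef] at hx
      obtain ⟨y, hy, rfl⟩ := Submodule.mem_map.mp hx
      exact ⟨LinearMap.mem_ker.mp y.2, LinearMap.mem_ker.mp hy⟩
    exact ⟨W.subtype ∘ b, b.linearIndependent.map' _ W.ker_subtype, fun i => (hmem _ (b i).2).1,
      fun i => (hmem _ (b i).2).2⟩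
  clear hW
  let colv : Idx k → (Idx k → F) := Sum.elim (fun _ => w) (Sum.elim (fun i => bb i) fun _ => v)
  set P : Matrix (Idx k) (Idx k) F := Matrix.of fun r c => colv c r
  have hmv : ∀ c, P *ᵥ c = c (Sum.inl ()) • w + (∑ i, c (Sum.inr (Sum.inl i)) • bb i) +
      c (Sum.inr (Sum.inr ())) • v := fun c => by
    funext r
    simp only [Matrix.mulVec, dotProduct, P, Matrix.of_apply, Fintype.sum_sum_type, Finset.univ_unique,
      Finset.sum_singleton, colv, Sum.elim_inl, Sum.elim_inr, Pi.add_apply, Pi.smul_apply, Finset.sum_apply,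
      smul_eq_mul]
    simp only [mul_comm, add_assoc]
  have hdet : P.det ≠ 0 := by
    intro hd
    obtain ⟨c, hc, hc0⟩ := Matrix.exists_mulVec_eq_zero_iff.mpr hd
    rw [hmv] at hc0
    have hd0 : c (Sum.inr (Sum.inr ())) = 0 := by
      have := congrArg (N *ᵥ ·) hc0
      simp only [Matrix.mulVec_add, Matrix.mulVec_smul, Matrix.mulVec_sum, hNw, hbK, smul_zero,
        Finset.sum_const_zero, zero_add, Matrix.mulVec_zero] at this
      exact (smul_eq_zero.mp this).resolve_right hv
    rw [hd0, zero_smul, add_zero] at hc0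
    have ha0 : c (Sum.inl ()) = 0 := by
      have := congrFun hc0 r0
      simp only [Pi.add_apply, Pi.smul_apply, Finset.sum_apply, hbr, smul_eq_mul, mul_zero, Finset.sum_const_zero,
        add_zero, Pi.zero_apply] at this
      exact (mul_eq_zero.mp this).resolve_right hr0
    rw [ha0, zero_smul, zero_add] at hc0
    have hb := (Fintype.linearIndependent_iff.mp hli) (fun i => c (Sum.inr (Sum.inl i))) hc0
    apply hc
    funext x
    rcases x with ⟨⟩ | i | ⟨⟩
    · exact ha0
    · exact hb i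
    · exact hd0
  refine ⟨Matrix.GeneralLinearGroup.mkOfDetNeZero P hdet, ?_⟩
  show N * P = P * std F k
  ext r c
  rw [show (N * P) r c = (N *ᵥ colv c) r from rfl]
  rcases c with ⟨⟩ | i | ⟨⟩
  · simp [colv, std, hNw, Matrix.mul_apply, Matrix.single_apply]
  · simp [colv, std, hbK, Matrix.mul_apply, Matrix.single_apply]
  · simp [colv, std, P, ← hw, Matrix.mul_apply, Matrix.single_apply]

/-- the general matrix commuting with the standard one -/
def commMat (l : F) (A : Matrix (Fin k) (Fin k) F) (r c : Fin k → F) (s : F) : Matrix (Idx k) (Idx k) F :=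
  Matrix.fromBlocks (Matrix.of fun _ _ => l) (Matrix.of fun _ => Sum.elim r fun _ => s) 0
    (Matrix.fromBlocks A (Matrix.of fun i _ => c i) 0 (Matrix.of fun _ _ => l))

theorem det_commMat (l : F) (A : Matrix (Fin k) (Fin k) F) (r c : Fin k → F) (s : F) :
    (commMat l A r c s).det = l * (A.det * l) := by
  rw [commMat, Matrix.det_fromBlocks_zero₂₁, Matrix.det_fromBlocks_zero₂₁, Matrix.det_unique (n := Unit)]
  rfl

theorem commute_commMat (l : F) (A : Matrix (Fin k) (Fin k) F) (r c : Fin k → F) (s : F) :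
    Commute (std F k) (commMat l A r c s) := by
  ext i j
  rcases i with ⟨⟩ | i | ⟨⟩ <;> rcases j with ⟨⟩ | j | ⟨⟩ <;>
    simp [std, commMat, Matrix.mul_apply, Matrix.single_apply, Fintype.sum_sum_type, Matrix.fromBlocks]

theorem exists_commMat_eq {M : Matrix (Idx k) (Idx k) F} (h : Commute (std F k) M) :
    ∃ l A r c s, commMat l A r c s = M := by
  have hE : ∀ i j, (std F k * M) i j = (M * std F k) i j := fun i j => by rw [h.eq]
  refine ⟨M (Sum.inl ()) (Sum.inl ()), Matrix.of fun i j => M (Sum.inr (Sum.inl i)) (Sum.inr (Sum.inl j)),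
    fun j => M (Sum.inl ()) (Sum.inr (Sum.inl j)), fun i => M (Sum.inr (Sum.inl i)) (Sum.inr (Sum.inr ())),
    M (Sum.inl ()) (Sum.inr (Sum.inr ())), ?_⟩
  have h1 : M (Sum.inr (Sum.inr ())) (Sum.inl ()) = 0 := by
    simpa [std, Matrix.mul_apply, Matrix.single_apply] using hE (Sum.inl ()) (Sum.inl ())
  have h2 : ∀ i, M (Sum.inr (Sum.inl i)) (Sum.inl ()) = 0 := fun i => by
    simpa [std, Matrix.mul_apply, Matrix.single_apply] using (hE (Sum.inr (Sum.inl i)) (Sum.inr (Sum.inr ()))).symm
  have h3 : ∀ j, M (Sum.inr (Sum.inr ())) (Sum.inr (Sum.inl j)) = 0 := fun j => by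
    simpa [std, Matrix.mul_apply, Matrix.single_apply] using hE (Sum.inl ()) (Sum.inr (Sum.inl j))
  have h4 : M (Sum.inr (Sum.inr ())) (Sum.inr (Sum.inr ())) = M (Sum.inl ()) (Sum.inl ()) := by
    simpa [std, Matrix.mul_apply, Matrix.single_apply] using hE (Sum.inl ()) (Sum.inr (Sum.inr ()))
  ext i j
  rcases i with ⟨⟩ | i | ⟨⟩ <;> rcases j with ⟨⟩ | j | ⟨⟩ <;>
    simp [commMat, Matrix.fromBlocks, h1, h2, h3, h4]

/-- the number of invertible matrices commuting with the standard one -/
theorem card_commute_std [Fintype F] (k : ℕ) :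
    Nat.card {g : GL (Idx k) F // Commute (std F k) (g : Matrix (Idx k) (Idx k) F)} =
      (Fintype.card F - 1) * (∏ i : Fin k, (Fintype.card F ^ k - Fintype.card F ^ (i : ℕ))) *
        (Fintype.card F ^ k * Fintype.card F ^ k * Fintype.card F) := by
  classical
  let f : (Fˣ × GL (Fin k) F) × ((Fin k → F) × (Fin k → F) × F) →
      {g : GL (Idx k) F // Commute (std F k) (g : Matrix (Idx k) (Idx k) F)} := fun x =>
    ⟨Matrix.GeneralLinearGroup.mkOfDetNeZero
      (commMat (x.1.1 : F) (x.1.2 : Matrix (Fin k) (Fin k) F) x.2.1 x.2.2.1 x.2.2.2) (by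
        rw [det_commMat]
        exact mul_ne_zero x.1.1.ne_zero (mul_ne_zero
          ((Matrix.isUnit_iff_isUnit_det _).mp x.1.2.isUnit).ne_zero x.1.1.ne_zero)),
      commute_commMat _ _ _ _ _⟩
  have hf : Function.Bijective f := by
    refine ⟨fun x y hxy => ?_, fun g => ?_⟩
    · have hM : commMat (x.1.1 : F) (x.1.2 : Matrix (Fin k) (Fin k) F) x.2.1 x.2.2.1 x.2.2.2 =
          commMat (y.1.1 : F) (y.1.2 : Matrix (Fin k) (Fin k) F) y.2.1 y.2.2.1 y.2.2.2 :=
        congrArg (fun z => ((z.1 : GL (Idx k) F) : Matrix (Idx k) (Idx k) F)) hxy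
      refine Prod.ext (Prod.ext (Units.ext ?_) (Units.ext (Matrix.ext fun i j => ?_)))
        (Prod.ext (funext fun j => ?_) (Prod.ext (funext fun i => ?_) ?_))
      · exact congrFun (congrFun hM (Sum.inl ())) (Sum.inl ())
      · exact congrFun (congrFun hM (Sum.inr (Sum.inl i))) (Sum.inr (Sum.inl j))
      · exact congrFun (congrFun hM (Sum.inl ())) (Sum.inr (Sum.inl j))
      · exact congrFun (congrFun hM (Sum.inr (Sum.inl i))) (Sum.inr (Sum.inr ()))
      · exact congrFun (congrFun hM (Sum.inl ())) (Sum.inr (Sum.inr ()))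
    · obtain ⟨l, A, r, c, s, hM⟩ := exists_commMat_eq g.2
      have hd := ((Matrix.isUnit_iff_isUnit_det _).mp g.1.isUnit).ne_zero
      rw [← hM, det_commMat] at hd
      have hl : l ≠ 0 := fun e => hd (by rw [e, zero_mul])
      have hA : A.det ≠ 0 := fun e => hd (by rw [e, zero_mul, mul_zero])
      exact ⟨((Units.mk0 l hl, Matrix.GeneralLinearGroup.mkOfDetNeZero A hA), (r, c, s)),
        Subtype.ext (Units.ext hM)⟩
  rw [← Nat.card_eq_of_bijective f hf, Nat.card_prod, Nat.card_prod, Nat.card_prod, Nat.card_prod,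
    Nat.card_units, Matrix.card_GL_field]
  simp only [Nat.card_eq_fintype_card, Fintype.card_fun, Fintype.card_fin, mul_assoc]

end Cfsg.Agent.LinAlg.Transv
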